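import Cfsg.Agent.H990.K547.Idx
import Cfsg.Agent.H122.S5.DFour
import Cfsg.Agent.H430.CfGraph
import Cfsg.Agent.ChevalleyStructure.HMatDiagAll
import Cfsg.Agent.S1077
import Cfsg.Agent.S1054
import Cfsg.Agent.S1061
import Cfsg.Agent.S1062
import Cfsg.Agent.S1082
import Cfsg.Agent.H358.K547.PO

/-!
# S4547, K547-QO-F4 (helper990): `F₄(q)`, `q` odd

The long roots generate `K = Spin₈⁺(q)`, `K / Z(K) = D₄(q)`; the short fundamental reflection `n = n_{p₂}` induces a graph
involution on it; `h_{p₁}(-1)`, `h_{p₂}(-1)` centralise `K`, and `|F₄(q)|₂ = 8 |D₄(q)|₂`.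
-/

set_option autoImplicit false
set_option linter.unusedSectionVars false

namespace Cfsg.Agent.H990.K547

open scoped Pointwise
open Subgroup Cfsg Cfsg.Lie Cfsg.Agent.ChevalleyStructure Cfsg.Agent.ChevalleyStructure.Elts
  Cfsg.Agent.ChevalleyStructure.NConj Cfsg.Agent.ChevalleyStructure.StBasic
  Cfsg.Agent.H70.AutFix Cfsg.Agent.H70.ChevTab Cfsg.Agent.H70.ChevFix Cfsg.Agent.H70.ChevField
  Cfsg.Agent.H821.K547 Cfsg.Agent.H122.S5

universe u

theorem inD4 : InList chevD4 := by simp [InList]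
theorem inF4 : InList chevF4 := by simp [InList]

theorem sl {i : ℕ} (hi : i < 4) : chevF4.simple i < chevF4.nroots := by
  interval_cases i <;> decide

/-- the long roots -/
def lF : List ℕ := [47, 24, 42, 31, 45, 22, 26, 43, 32, 46, 17, 6, 41, 30, 1, 15, 4, 21, 25, 2, 16, 5, 23, 0]

/-- the signs -/
def sF : List ℤ := [1, 1, 1, 1, 1, 1, -1, 1, 1, 1, 1, 1, 1, 1, 1, 1, 1, -1, 1, 1, 1, 1, 1, 1]

theorem embF : EmbS chevD4 chevF4 lF sF := emb_f4

theorem nroots_D4 : chevD4.nroots = 24 := rfl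
theorem nroots_F4 : chevF4.nroots = 48 := rfl

/-- `s_{p₂}` permutes the long roots -/
theorem tab_refl : ∀ r : Fin 24, ∃ r' : Fin 24, chevF4.reflectRoot 1 (io lF r) = io lF r' := by decide +kernel

/-- the action of the torus elements `h_{p₁}(-1)`, `h_{p₂}(-1)` on the long roots is trivial -/
theorem tab_even : ∀ r : Fin 24, chevF4.cartan 0 (io lF r) % 2 = 0 ∧ chevF4.cartan 1 (io lF r) % 2 = 0 := by
  decide +kernel

theorem tab_cartan : chevF4.cartan 0 (chevF4.simple 1) = -1 ∧ chevF4.cartan 1 (chevF4.simple 1) = 2 := by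
  decide +kernel

/-- the permutation of the nodes of `D₄` -/
def piD : Equiv.Perm (Fin chevD4.rank) := Equiv.swap (⟨0, by decide⟩ : Fin chevD4.rank) ⟨2, by decide⟩

theorem piD_ne : piD ≠ 1 := by decide

theorem tab_simple : ∀ i : Fin chevD4.rank,
    chevF4.reflectRoot 1 (io lF (chevD4.simple i)) = io lF (chevD4.simple (piD i)) ∧
    chevF4.reflectRoot 1 (io lF (chevD4.neg (chevD4.simple i))) = io lF (chevD4.neg (chevD4.simple (piD i))) ∧
    chevD4.simple i < 24 ∧ chevD4.neg (chevD4.simple i) < 24 := by decide +kernel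

section

variable {F : Type u} [Field F]

/-- the embedding -/
noncomputable def phi (F : Type u) [Field F] : chevD4.SteinbergGroup F →* ↥(chevF4.group F) := embF.pi inF4 (F := F)

theorem phi_gen {r : ℕ} (hr : r < 24) (t : F) :
    phi F (chevD4.stGen F r t) = H70.ChevFix.xe inF4 (io lF r) ((si sF r : F) * t) :=
  embF.pi_gen inF4 hr t

theorem si_sq' {r : ℕ} (hr : r < 24) : ((si sF r : ℤ) : F) * (si sF r : F) = 1 := si_sq (F := F) embF hr

/-- the reflection -/
noncomputable def nn (F : Type u) [Field F] : ↥(chevF4.group F) := ne inF4 (chevF4.simple 1) (1 : F)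

theorem nn_conj {s : ℕ} (hs : s < 48) : ∃ η : F, η ≠ 0 ∧ ∀ t : F,
    nn F * H70.ChevFix.xe inF4 s t * (nn F)⁻¹ = H70.ChevFix.xe inF4 (chevF4.reflectRoot 1 s) (η * t) := by
  obtain ⟨η, h1, h2, -⟩ := conj_x (F := F) inF4 (i := 1) (by decide) hs
  refine ⟨η, ?_, fun t => Subtype.ext (h2 t)⟩
  rcases h1 with rfl | rfl
  · exact one_ne_zero
  · exact neg_ne_zero.2 one_ne_zero

theorem io_lt {r : ℕ} (hr : r < 24) : io lF r < 48 := embF.lt ⟨r, hr⟩

/-- induction over the presented group -/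
theorem st_induction {P : chevD4.SteinbergGroup F → Prop} (h1 : P 1) (hm : ∀ x y, P x → P y → P (x * y))
    (hi : ∀ x, P x → P x⁻¹) (hg : ∀ (r : ℕ) (t : F), r < 24 → P (chevD4.stGen F r t)) (x : chevD4.SteinbergGroup F) :
    P x := by
  have hx : x ∈ (⊤ : Subgroup (chevD4.SteinbergGroup F)) := mem_top x
  rw [← closure_stGen chevD4] at hx
  induction hx using Subgroup.closure_induction with
  | mem y hy =>
    obtain ⟨r, t, hr, rfl⟩ := hy
    exact hg r t hr
  | one => exact h1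
  | mul a b _ _ ha hb => exact hm a b ha hb
  | inv a _ ha => exact hi a ha

theorem nn_norm [Finite F] : nn F ∈ normalizer ((phi F).range : Set ↥(chevF4.group F)) := by
  have : Finite ↥(chevF4.group F) := inferInstance
  apply Subgroup.mem_normalizer_fintype
  rintro _ ⟨x, rfl⟩
  refine st_induction (P := fun x => nn F * phi F x * (nn F)⁻¹ ∈ ((phi F).range : Set ↥(chevF4.group F)))
    ?_ ?_ ?_ ?_ x
  · change nn F * phi F 1 * (nn F)⁻¹ ∈ (phi F).range
    rw [map_one, mul_one, mul_inv_cancel]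
    exact one_mem _
  · intro x y hx hy
    have := (phi F).range.mul_mem hx hy
    change nn F * phi F (x * y) * (nn F)⁻¹ ∈ (phi F).range
    rw [map_mul]
    convert this using 1
    group
  · intro x hx
    have := (phi F).range.inv_mem hx
    change nn F * phi F x⁻¹ * (nn F)⁻¹ ∈ (phi F).range
    rw [map_inv]
    convert this using 1
    group
  · intro r t hr
    obtain ⟨η, -, h2⟩ := nn_conj (F := F) (io_lt hr)
    obtain ⟨r', hr'⟩ := tab_refl ⟨r, hr⟩
    refine ⟨chevD4.stGen F r' ((si sF r' : F) * (η * ((si sF r : F) * t))), ?_⟩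
    rw [phi_gen r'.2, phi_gen hr, h2, ← mul_assoc, si_sq' r'.2, one_mul, hr']

/-- the involutions which centralise `K` -/
noncomputable def hh (F : Type u) [Field F] (i : ℕ) : ↥(chevF4.group F) := he inF4 (chevF4.simple i) (-1 : F)

theorem neg_one_zpow_even {a : ℤ} (ha : a % 2 = 0) : ((-1 : F)) ^ a = 1 := by
  obtain ⟨b, rfl⟩ := Int.dvd_of_emod_eq_zero ha
  rw [zpow_mul]
  norm_num

theorem hh_comm {i : ℕ} (hi : i < 2) (x : chevD4.SteinbergGroup F) : hh F i * phi F x = phi F x * hh F i := by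
  refine st_induction (P := fun x => hh F i * phi F x = phi F x * hh F i) ?_ ?_ ?_ ?_ x
  · rw [map_one, mul_one, one_mul]
  · intro x y hx hy
    rw [map_mul, ← mul_assoc, hx, mul_assoc, hy, mul_assoc]
  · intro x hx
    rw [map_inv]
    exact (show Commute (hh F i) (phi F x) from hx).inv_right
  · intro r t hr
    rw [phi_gen hr]
    have h1 := he_conj (F := F) inF4 (i := i) (lt_trans hi (by decide)) (io_lt hr) (neg_ne_zero.2 one_ne_zero)
      ((si sF r : F) * t)
    have h2 : chevF4.cartan i (io lF r) % 2 = 0 := by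
      obtain ⟨h3, h4⟩ := tab_even ⟨r, hr⟩
      rcases (by omega : i = 0 ∨ i = 1) with rfl | rfl
      · exact h3
      · exact h4
    rw [neg_one_zpow_even h2, one_mul, mul_inv_eq_iff_eq_mul] at h1
    exact h1

theorem nn_sq : nn F * nn F = (hh F 1)⁻¹ := Subtype.ext (nG_one_mul_self inF4 _)

/-! ### the two involutions -/

theorem hh_mul_self (i : ℕ) (hi : i < 4) : hh F i * hh F i = 1 := by
  apply Subtype.ext
  apply Units.ext
  change ((hG inF4 (chevF4.simple i) (-1 : F) * hG inF4 (chevF4.simple i) (-1 : F) : GL chevF4.Idx F) :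
    Matrix chevF4.Idx chevF4.Idx F) = 1
  rw [Units.val_mul, coe_hG]
  have h1 := S1076.result (F := F) chevF4 inF4 (chevF4.simple i) (sl hi) (-1) (-1) (neg_ne_zero.2 one_ne_zero)
    (neg_ne_zero.2 one_ne_zero)
  rw [h1]
  have h2 := S1076.result (F := F) chevF4 inF4 (chevF4.simple i) (sl hi) 1 1 one_ne_zero one_ne_zero
  rw [mul_one] at h2
  have h3 : hG inF4 (chevF4.simple i) (1 : F) * hG inF4 (chevF4.simple i) 1 = hG inF4 (chevF4.simple i) 1 := by
    apply Units.ext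
    rw [Units.val_mul, coe_hG]
    exact h2
  have h4 : hG inF4 (chevF4.simple i) (1 : F) = 1 := mul_eq_left.1 h3
  have h5 := congrArg (Units.val) h4
  rw [coe_hG, Units.val_one] at h5
  rw [show ((-1 : F)) * -1 = 1 by ring]
  exact h5

theorem hh_hh_comm : hh F 0 * hh F 1 = hh F 1 * hh F 0 := by
  apply Subtype.ext
  have h0 := hG_mem_diagonal (F := F) inF4 (sl (i := 0) (by decide)) (neg_ne_zero.2 one_ne_zero)
  have h1 := hG_mem_diagonal (F := F) inF4 (sl (i := 1) (by decide)) (neg_ne_zero.2 one_ne_zero)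
  obtain ⟨χ, hχ⟩ := HMatDiagAll.mem_torus.1 (HMatDiagAll.diagonalSubgroup_le_torus inF4 h0)
  obtain ⟨ψ, hψ⟩ := HMatDiagAll.mem_torus.1 (HMatDiagAll.diagonalSubgroup_le_torus inF4 h1)
  apply Units.ext
  change ((hG inF4 (chevF4.simple 0) (-1 : F) * hG inF4 (chevF4.simple 1) (-1 : F) : GL chevF4.Idx F) :
      Matrix chevF4.Idx chevF4.Idx F) =
    ((hG inF4 (chevF4.simple 1) (-1 : F) * hG inF4 (chevF4.simple 0) (-1 : F) : GL chevF4.Idx F) :
      Matrix chevF4.Idx chevF4.Idx F)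
  rw [Units.val_mul, Units.val_mul, hχ, hψ, Matrix.diagonal_mul_diagonal, Matrix.diagonal_mul_diagonal]
  congr 1
  funext i
  exact mul_comm _ _

theorem hh_zero_act (t : F) : hh F 0 * H70.ChevFix.xe inF4 (chevF4.simple 1) t * (hh F 0)⁻¹ =
    H70.ChevFix.xe inF4 (chevF4.simple 1) (-t) := by
  have h1 := he_conj (F := F) inF4 (i := 0) (by decide) (sl (i := 1) (by decide))
    (neg_ne_zero.2 one_ne_zero) t
  rw [tab_cartan.1] at h1
  rw [show (hh F 0) = he inF4 (chevF4.simple 0) (-1 : F) from rfl, h1]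
  norm_num

theorem hh_one_act (t : F) : hh F 1 * H70.ChevFix.xe inF4 (chevF4.simple 1) t * (hh F 1)⁻¹ =
    H70.ChevFix.xe inF4 (chevF4.simple 1) t := by
  have h1 := he_conj (F := F) inF4 (i := 1) (by decide) (sl (i := 1) (by decide))
    (neg_ne_zero.2 one_ne_zero) t
  rw [tab_cartan.2] at h1
  rw [show (hh F 1) = he inF4 (chevF4.simple 1) (-1 : F) from rfl, h1]
  norm_num

theorem xe_neg_ne (h2 : (2 : F) ≠ 0) :
    H70.ChevFix.xe inF4 (chevF4.simple 1) (-(1 : F)) ≠ H70.ChevFix.xe inF4 (chevF4.simple 1) 1 := by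
  intro h
  have h1 := H70.ChevFix.xe_inj inF4 (sl (i := 1) (by decide)) h
  apply h2
  linear_combination -h1

theorem hh_zero_ne_one (h2 : (2 : F) ≠ 0) : hh F 0 ≠ 1 := by
  intro h
  have h1 := hh_zero_act (1 : F)
  rw [h, one_mul, inv_one, mul_one] at h1
  exact xe_neg_ne h2 h1.symm

theorem hh_zero_ne (h2 : (2 : F) ≠ 0) : hh F 0 ≠ hh F 1 := by
  intro h
  have h1 := hh_zero_act (1 : F)
  rw [h, hh_one_act] at h1
  exact xe_neg_ne h2 h1.symm

theorem hh_one_ne_one (h2 : (2 : F) ≠ 0) : hh F 1 ≠ 1 := by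
  -- `h_{p₂}(-1)` acts on `x_{p₁}`
  intro h
  have h1 := he_conj (F := F) inF4 (i := 1) (by decide) (sl (i := 0) (by decide))
    (neg_ne_zero.2 one_ne_zero) 1
  have h3 : chevF4.cartan 1 (chevF4.simple 0) = -1 := by decide +kernel
  rw [h3, show he inF4 (chevF4.simple 1) (-1 : F) = 1 from h, one_mul, inv_one, mul_one] at h1
  have h4 := H70.ChevFix.xe_inj inF4 (sl (i := 0) (by decide)) h1
  apply h2
  norm_num at h4
  linear_combination h4

/-- a four-group which centralises `K` -/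
theorem exists_four [Finite F] (h2 : (2 : F) ≠ 0) :
    ∃ C : Subgroup ↥(chevF4.group F), (∀ c ∈ C, ∀ x, c * phi F x = phi F x * c) ∧ 4 ∣ Nat.card C := by
  have : Finite ↥(chevF4.group F) := inferInstance
  set a := hh F 0
  set b := hh F 1
  have ha : a * a = 1 := hh_mul_self 0 (by decide)
  have hb : b * b = 1 := hh_mul_self 1 (by decide)
  have hab : a * b = b * a := hh_hh_comm
  have hcomm : ∀ x ∈ zpowers a, ∀ y ∈ zpowers b, Commute x y := by
    intro x hx y hy
    obtain ⟨i, rfl⟩ := mem_zpowers_iff.1 hx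
    obtain ⟨j, rfl⟩ := mem_zpowers_iff.1 hy
    exact Commute.zpow_zpow hab i j
  let f : ↥(zpowers a) × ↥(zpowers b) →* ↥(chevF4.group F) :=
    MonoidHom.noncommCoprod (zpowers a).subtype (zpowers b).subtype fun x y => hcomm x x.2 y y.2
  have hz : ∀ c : ↥(chevF4.group F), c * c = 1 → ∀ x ∈ zpowers c, x = 1 ∨ x = c := by
    intro c hc x hx
    obtain ⟨i, rfl⟩ := mem_zpowers_iff.1 hx
    rcases Int.even_or_odd' i with ⟨k, rfl | rfl⟩
    · left
      rw [zpow_mul, zpow_two, hc, one_zpow]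
    · right
      rw [zpow_add, zpow_mul, zpow_two, hc, one_zpow, one_mul, zpow_one]
  have hinj : Function.Injective f := by
    rw [injective_iff_map_eq_one]
    rintro ⟨⟨x, hx⟩, ⟨y, hy⟩⟩ hxy
    have h1 : x * y = 1 := hxy
    rcases hz a ha x hx with rfl | rfl
    · rw [one_mul] at h1
      exact Prod.ext (Subtype.ext rfl) (Subtype.ext h1)
    · exfalso
      rcases hz b hb y hy with rfl | rfl
      · rw [mul_one] at h1
        exact hh_zero_ne_one h2 h1
      · have h3 : a = b := by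
          calc a = a * (b * b) := by rw [hb, mul_one]
            _ = a * b * b := by rw [mul_assoc]
            _ = b := by rw [h1, one_mul]
        exact hh_zero_ne h2 h3
  have hcard : ∀ c : ↥(chevF4.group F), c * c = 1 → c ≠ 1 → Nat.card (zpowers c) = 2 := by
    intro c hc hc1
    rw [Nat.card_zpowers]
    exact orderOf_eq_prime (by rw [pow_two, hc]) hc1
  refine ⟨f.range, ?_, ?_⟩
  · rintro _ ⟨⟨x, y⟩, rfl⟩ z
    have h1 : (x : ↥(chevF4.group F)) * phi F z = phi F z * x := by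
      rcases hz a ha x x.2 with h | h
      · rw [h, one_mul, mul_one]
      · rw [h]
        exact hh_comm (by decide) z
    have h3 : (y : ↥(chevF4.group F)) * phi F z = phi F z * y := by
      rcases hz b hb y y.2 with h | h
      · rw [h, one_mul, mul_one]
      · rw [h]
        exact hh_comm (by decide) z
    change (x : ↥(chevF4.group F)) * y * phi F z = phi F z * (x * y)
    rw [mul_assoc, h3, ← mul_assoc, h1, mul_assoc]
  · rw [← Nat.card_congr (MonoidHom.ofInjective hinj).toEquiv, Nat.card_prod,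
      hcard a ha (hh_zero_ne_one h2), hcard b hb (hh_one_ne_one h2)]

/-! ### the graph involution -/

theorem exists_act [Finite F] : ∃ θ : chevD4.SteinbergGroup F →* ↥(chevD4.group F), Act (phi F) θ ∧
    ∀ (r : ℕ) (t : F), r < 24 → θ (chevD4.stGen F r t) = H70.ChevFix.xe inD4 r t := by
  obtain ⟨θ, h1, h2, h3⟩ := S1077.result (K := F) chevD4 (by simp)
  have : IsSimpleGroup ↥(chevD4.group F) := (S1054.result chevD4 (by simp)).1
  refine ⟨θ, Act.of_perfect h1 h2 (perf_st perf_d4) ⟨chevD4.stGen F 0 1, ?_⟩, ?_⟩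
  · rw [phi_gen (by decide)]
    intro h4
    have h5 : H70.ChevFix.xe inF4 (io lF 0) ((si sF 0 : F) * 1) = H70.ChevFix.xe inF4 (io lF 0) (0 : F) := by
      rw [h4]
      apply Subtype.ext
      exact (xG_zero inF4 _).symm
    have h6 := H70.ChevFix.xe_inj inF4 (io_lt (by decide)) h5
    have h7 := si_sq' (F := F) (r := 0) (by decide)
    rw [mul_one] at h6
    rw [h6, mul_zero] at h7
    exact zero_ne_one h7
  · intro r t hr
    apply Subtype.ext
    apply Units.ext
    exact h3 r t hr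

theorem rho_gen [Finite F] {θ : chevD4.SteinbergGroup F →* ↥(chevD4.group F)} (h : Act (phi F) θ)
    (hθ : ∀ (r : ℕ) (t : F), r < 24 → θ (chevD4.stGen F r t) = H70.ChevFix.xe inD4 r t) {r r' : ℕ} (hr : r < 24)
    (hr' : r' < 24) (hrr : chevF4.reflectRoot 1 (io lF r) = io lF r') :
    ∃ c : F, c ≠ 0 ∧ ∀ t, h.rho ⟨nn F, nn_norm⟩ (H70.ChevFix.xe inD4 r t) = H70.ChevFix.xe inD4 r' (c * t) := by
  obtain ⟨η, hη, h2⟩ := nn_conj (F := F) (io_lt hr)
  have hs : ∀ {r : ℕ}, r < 24 → ((si sF r : ℤ) : F) ≠ 0 := by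
    intro r hr h0
    have h7 := si_sq' (F := F) hr
    rw [h0, mul_zero] at h7
    exact zero_ne_one h7
  refine ⟨(si sF r' : F) * (η * (si sF r : F)), mul_ne_zero (hs hr') (mul_ne_zero hη (hs hr)), fun t => ?_⟩
  rw [← hθ r t hr, ← hθ r' _ hr']
  apply h.rho_eq
  change phi F _ = nn F * phi F _ * (nn F)⁻¹
  rw [phi_gen hr', phi_gen hr, h2, hrr]
  congr 1
  rw [← mul_assoc, ← mul_assoc, si_sq' hr', one_mul, mul_assoc]

theorem rho_perm [Finite F] {θ : chevD4.SteinbergGroup F →* ↥(chevD4.group F)} (h : Act (phi F) θ)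
    (hθ : ∀ (r : ℕ) (t : F), r < 24 → θ (chevD4.stGen F r t) = H70.ChevFix.xe inD4 r t) :
    H70.ChevField.Perm chevD4 F (h.rho ⟨nn F, nn_norm⟩) piD where
  pos i := by
    obtain ⟨h1, h2, h3, h4⟩ := tab_simple i
    obtain ⟨c, hc, h5⟩ := rho_gen h hθ h3 (tab_simple (piD i)).2.2.1 h1
    exact H69.OutGF.smul_XX inD4 (f := fun t => c * t) (mul_left_surjective₀ hc) h5
  neg i := by
    obtain ⟨h1, h2, h3, h4⟩ := tab_simple i
    obtain ⟨c, hc, h5⟩ := rho_gen h hθ h4 (tab_simple (piD i)).2.2.2 h2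
    exact H69.OutGF.smul_XX inD4 (f := fun t => c * t) (mul_left_surjective₀ hc) h5

theorem rho_not_inn [Finite F] {θ : chevD4.SteinbergGroup F →* ↥(chevD4.group F)} (h : Act (phi F) θ)
    (hθ : ∀ (r : ℕ) (t : F), r < 24 → θ (chevD4.stGen F r t) = H70.ChevFix.xe inD4 r t) :
    ¬ IsInn (h.rho ⟨nn F, nn_norm⟩) := by
  rintro ⟨s, hs⟩
  have h1 : h.rho ⟨nn F, nn_norm⟩ = MulAut.conj s := MulEquiv.ext hs
  have h2 := rho_perm h hθ
  rw [h1] at h2
  exact piD_ne (H430.CfGraph.perm_one_of_inner inD4 h2)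

theorem rho_sq [Finite F] {θ : chevD4.SteinbergGroup F →* ↥(chevD4.group F)} (h : Act (phi F) θ) :
    h.rho ⟨nn F, nn_norm⟩ * h.rho ⟨nn F, nn_norm⟩ = 1 := by
  rw [← map_mul]
  have h1 : (nn F * nn F) ∈ normalizer ((phi F).range : Set ↥(chevF4.group F)) := mul_mem nn_norm nn_norm
  refine h.rho_cent h1 fun x => ?_
  rw [nn_sq]
  exact (show Commute (hh F 1) (phi F x) from hh_comm (by decide) x).inv_left

end

/-! ### the orders -/

theorem card_eq {F : Type u} [Field F] [Fintype F] (hF : Odd (Fintype.card F)) :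
    (Nat.card ↥(chevF4.group F)).factorization 2 = (Nat.card ↥(chevD4.group F)).factorization 2 + 3 := by
  have h1 := S1061.result (F := F) rfl
  have h2 := S1062.result (F := F) rfl
  set q := Fintype.card F with hq
  have hq1 : 1 < q := Fintype.one_lt_card
  have hg : Nat.gcd 2 (q - 1) = 2 := by
    apply Nat.gcd_eq_left
    obtain ⟨k, hk⟩ := hF
    exact ⟨k, by omega⟩
  rw [hg] at h1
  obtain ⟨m, hm⟩ : ∃ m, q ^ 4 = 8 * m + 1 := by
    obtain ⟨k, hk⟩ := hF
    obtain ⟨j, hj⟩ : ∃ j, k * (k + 1) = 2 * j := (Nat.even_mul_succ_self k).exists_two_nsmul _ |>.imp fun _ h => by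
      rw [h, smul_eq_mul]
    have h3 : q ^ 2 = 8 * j + 1 := by
      rw [hk]
      have : (2 * k + 1) ^ 2 = 4 * (k * (k + 1)) + 1 := by ring
      rw [this, hj]
      ring
    refine ⟨8 * j ^ 2 + 2 * j, ?_⟩
    have : q ^ 4 = (q ^ 2) ^ 2 := by ring
    rw [this, h3]
    ring
  have e8 : q ^ 8 - 1 = (q ^ 4 - 1) * (q ^ 4 + 1) := by
    have : q ^ 8 = (q ^ 4) ^ 2 := by ring
    rw [this, hm]
    have h3 : 8 * m + 1 - 1 = 8 * m := by omega
    rw [h3]
    have h4 : (8 * m + 1) ^ 2 = 8 * m * (8 * m + 1 + 1) + 1 := by ring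
    rw [h4]
    omega
  have e12 : q ^ 12 - 1 = (q ^ 4 - 1) * (q ^ 8 + q ^ 4 + 1) := by
    have h3 : q ^ 12 = (q ^ 4) ^ 3 := by ring
    have h4 : q ^ 8 = (q ^ 4) ^ 2 := by ring
    rw [h3, h4, hm]
    have h5 : 8 * m + 1 - 1 = 8 * m := by omega
    rw [h5]
    have h6 : (8 * m + 1) ^ 3 = 8 * m * ((8 * m + 1) ^ 2 + (8 * m + 1) + 1) + 1 := by ring
    rw [h6]
    omega
  have h3 : Nat.card ↥(chevF4.group F) = Nat.card ↥(chevD4.group F) *
      (2 ^ 3 * (q ^ 12 * (4 * m + 1) * (q ^ 8 + q ^ 4 + 1))) := by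
    rw [h2, e8, e12]
    have h4 : q ^ 4 + 1 = 2 * (4 * m + 1) := by rw [hm]; ring
    rw [h4]
    calc q ^ 24 * (q ^ 2 - 1) * (q ^ 6 - 1) * ((q ^ 4 - 1) * (2 * (4 * m + 1))) * ((q ^ 4 - 1) * (q ^ 8 + q ^ 4 + 1))
        = (q ^ 12 * (q ^ 2 - 1) * (q ^ 4 - 1) * (q ^ 4 - 1) * (q ^ 6 - 1)) *
          (2 * (q ^ 12 * (4 * m + 1) * (q ^ 8 + q ^ 4 + 1))) := by ring
      _ = _ := by rw [← h1]; ring
  have hodd : Odd (q ^ 12 * (4 * m + 1) * (q ^ 8 + q ^ 4 + 1)) := by
    refine (hF.pow.mul ⟨2 * m, by ring⟩).mul ?_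
    exact ((hF.pow (n := 8)).add_odd hF.pow).add_one
  have hD0 : Nat.card ↥(chevD4.group F) ≠ 0 := by
    have : Finite ↥(chevD4.group F) := inferInstance
    exact Nat.card_pos.ne'
  have h0 : q ^ 12 * (4 * m + 1) * (q ^ 8 + q ^ 4 + 1) ≠ 0 := hodd.pos.ne'
  rw [h3, Nat.factorization_mul hD0 (mul_ne_zero (by norm_num) h0), Nat.factorization_mul (by norm_num) h0,
    Nat.factorization_pow]
  have h5 : (q ^ 12 * (4 * m + 1) * (q ^ 8 + q ^ 4 + 1)).factorization 2 = 0 :=
    Nat.factorization_eq_zero_of_not_dvd fun h => by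
      rw [← even_iff_two_dvd] at h
      exact (Nat.not_even_iff_odd.2 hodd) h
  simp [h5, Nat.prime_two.factorization_self]

theorem d3_chevD4 {F : Type u} [Field F] [Fintype F] (hF : Odd (Fintype.card F)) : D3 ↥(chevD4.group F) := by
  obtain ⟨e⟩ := S1082.result (F := F)
  exact H358.K547.d3_congr e.symm (H358.K547.d3_pOmegaPlus hF (le_refl 4))

/-- **D3 for `F₄(q)`, `q` odd**, from JORDAN -/
theorem d3_f4_of {F : Type u} [Field F] [Fintype F] (hF : Odd (Fintype.card F))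
    (jordan : ∀ (S : Type u) [Group S] [Finite S] [IsSimpleGroup S], ¬ IsMulCommutative S → D3 S → ∀ (τ : MulAut S) (s : S),
      (∀ x, (τ * τ) x = s * x * s⁻¹) → ¬ IsInn τ → D3 (AutExt τ)) : D3 ↥(chevF4.group F) := by
  have h2 : (2 : F) ≠ 0 := H358.K547.two_ne_of_odd hF
  have hA : Finite ↥(chevF4.group F) := inferInstance
  have hD : Finite ↥(chevD4.group F) := inferInstance
  obtain ⟨θ, h, hθ⟩ := exists_act (F := F)
  have hS := S1054.result (F := F) chevD4 (by simp)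
  have : IsSimpleGroup ↥(chevD4.group F) := hS.1
  obtain ⟨C, hC, hC4⟩ := exists_four h2
  have hsq : ∀ x, (h.rho ⟨nn F, nn_norm⟩ * h.rho ⟨nn F, nn_norm⟩) x = 1 * x * 1⁻¹ := by
    intro x
    rw [rho_sq h]
    simp
  exact d3_of_act h (center_bot hS) ⟨nn F, nn_norm⟩ (rho_not_inn h hθ) hsq C hC hC4 (card_eq hF).le
    (jordan _ hS.2 (d3_chevD4 hF) _ 1 hsq (rho_not_inn h hθ))

end Cfsg.Agent.H990.K547
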